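import Groth.Agent.HypCurve.IdealChart
import Groth.Agent.ZetaLib.ProjPoints

/-!
# Values of forms at a point of a scheme over projective space
-/

set_option autoImplicit false
set_option linter.style.haveILetI false
set_option linter.unusedSectionVars false
set_option backward.isDefEq.respectTransparency false
set_option backward.isDefEq.respectTransparency.types false

universe u

open CategoryTheory CategoryTheory.Limits AlgebraicGeometry TopologicalSpace Opposite MvPolynomial
open HomogeneousLocalization (Away)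

noncomputable section

namespace Groth.Agent.BirBlowUp

open Groth.Agent

variable {n : ℕ} {k : Type u} [Field k]

theorem zdehom_X_self (i : Fin (n + 1)) : ZetaLib.dehom n k i (X i) = 1 := by
  have hu : IsUnit (algebraMap (MvPolynomial (Fin (n + 1)) k)
      (Localization (Submonoid.powers (X i : MvPolynomial (Fin (n + 1)) k))) (X i)) :=
    IsLocalization.map_units _ (⟨X i, 1, pow_one _⟩ : Submonoid.powers (X i : MvPolynomial (Fin (n + 1)) k))
  refine HomogeneousLocalization.val_injective _ (hu.mul_left_inj.1 ?_)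
  have h := ZetaLib.val_dehom_mul n k i (MvPolynomial.isHomogeneous_X k i)
  rw [pow_one] at h
  rw [HomogeneousLocalization.val_one, one_mul]
  exact h

/-- Every function on a standard chart is the dehomogenisation of a form. -/
theorem exists_form (i : Fin (n + 1)) (z : Γ(CohB1.ProjSpace n k, LefPen.chart n k i)) :
    ∃ (d : ℕ) (G : LefPen.Form n k d), LefPen.dehom G i = z := by
  haveI : IsIso (Proj.awayToSection (CohB1.polyGrading n k) (MvPolynomial.X i)) := by
    rw [← Proj.basicOpenIsoAway_hom (CohB1.polyGrading n k) (MvPolynomial.X i) (LefPen.X_mem n k i) one_pos]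
    infer_instance
  obtain ⟨w, rfl⟩ :=
    (ConcreteCategory.bijective_of_isIso (Proj.awayToSection (CohB1.polyGrading n k) (MvPolynomial.X i))).2 z
  obtain ⟨m, c, hc, rfl⟩ := HomogeneousLocalization.Away.mk_surjective (CohB1.polyGrading n k)
    (ZetaLib.X_mem_one n k i) w
  have hc' : c ∈ CohB1.polyGrading n k m := by rw [smul_eq_mul, mul_one] at hc; exact hc
  exact ⟨m, ⟨c, hc'⟩, rfl⟩

/-- A form can be raised in degree without changing its dehomogenisation. -/
theorem exists_pad (i : Fin (n + 1)) {d E : ℕ} (h : d ≤ E) (G : LefPen.Form n k d) :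
    ∃ G' : LefPen.Form n k E, LefPen.dehom G' i = LefPen.dehom G i := by
  have hm : X i ^ (E - d) * G.1 ∈ CohB1.polyGrading n k E := by
    have h' := (((MvPolynomial.isHomogeneous_X k i).pow (E - d)).mul (show G.1.IsHomogeneous d from G.2))
    rw [one_mul, Nat.sub_add_cancel h] at h'
    exact h'
  refine ⟨⟨_, hm⟩, ?_⟩
  rw [HypCurve.dehom_eq, HypCurve.dehom_eq, map_mul, map_pow, zdehom_X_self, one_pow, one_mul]

/-- The value of a form at a point in a chart. -/
def val {Z : Scheme.{u}} (c : Z ⟶ CohB1.ProjSpace n k) (i : Fin (n + 1)) (z : Z)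
    (hz : z ∈ c ⁻¹ᵁ LefPen.chart n k i) {d : ℕ} (G : LefPen.Form n k d) : Z.presheaf.stalk z :=
  Z.presheaf.germ (c ⁻¹ᵁ LefPen.chart n k i) z hz (c.app (LefPen.chart n k i) (LefPen.dehom G i))

variable {Z : Scheme.{u}} (c : Z ⟶ CohB1.ProjSpace n k)

theorem val_cross {i j : Fin (n + 1)} {z : Z} (hi : z ∈ c ⁻¹ᵁ LefPen.chart n k i) (hj : z ∈ c ⁻¹ᵁ LefPen.chart n k j)
    {d : ℕ} (G H : LefPen.Form n k d) : val c i z hi G * val c j z hj H = val c i z hi H * val c j z hj G := by
  let W := LefPen.chart n k i ⊓ LefPen.chart n k j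
  have hW : c z ∈ W := ⟨hi, hj⟩
  let ρ : Γ(CohB1.ProjSpace n k, W) →+* Z.presheaf.stalk z := ((CohB1.ProjSpace n k).presheaf.germ W (c z) hW ≫ c.stalkMap z).hom
  have hval : ∀ (l : Fin (n + 1)) (hl : z ∈ c ⁻¹ᵁ LefPen.chart n k l) (hle : W ≤ LefPen.chart n k l)
      (G : LefPen.Form n k d), val c l z hl G = ρ (AModX.resR hle (LefPen.dehom G l)) := fun l hl hle G => by
    show _ = c.stalkMap z ((CohB1.ProjSpace n k).presheaf.germ W (c z) hW
      ((CohB1.ProjSpace n k).presheaf.map (homOfLE hle).op (LefPen.dehom G l)))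
    rw [(CohB1.ProjSpace n k).presheaf.germ_res_apply (homOfLE hle) (c z) hW, Scheme.Hom.germ_stalkMap_apply]
    rfl
  rw [hval i hi inf_le_left G, hval j hj inf_le_right H, hval i hi inf_le_left H, hval j hj inf_le_right G,
    ← map_mul, ← map_mul, HypCurve.res_dehom G i j inf_le_left inf_le_right,
    HypCurve.res_dehom H i j inf_le_left inf_le_right]
  congr 1
  ring

theorem val_pow_X_self {i : Fin (n + 1)} {z : Z} (hi : z ∈ c ⁻¹ᵁ LefPen.chart n k i) (d : ℕ)
    (h : X i ^ d ∈ CohB1.polyGrading n k d) : val c i z hi (⟨_, h⟩ : LefPen.Form n k d) = 1 := by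
  rw [val, HypCurve.dehom_eq, map_pow, zdehom_X_self, one_pow, map_one, map_one, map_one]

theorem val_ne_zero_iff {i j : Fin (n + 1)} {z : Z} (hi : z ∈ c ⁻¹ᵁ LefPen.chart n k i)
    (hj : z ∈ c ⁻¹ᵁ LefPen.chart n k j) {d : ℕ} (G : LefPen.Form n k d) (hG : val c j z hj G ≠ 0) :
    val c i z hi G ≠ 0 := fun h0 => by
  have hX : X i ^ d ∈ CohB1.polyGrading n k d := by
    have h := (MvPolynomial.isHomogeneous_X k i).pow d
    rw [one_mul] at h
    exact h
  have h := val_cross c hi hj G ⟨_, hX⟩
  rw [h0, zero_mul, val_pow_X_self, one_mul] at h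
  exact hG h.symm

end Groth.Agent.BirBlowUp
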