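import Groth.Agent.BirBlowUp.Local

/-!
# Rings of intersections of affine opens in a closed subscheme of a product
-/

set_option autoImplicit false
set_option linter.style.haveILetI false
set_option linter.unusedSectionVars false
set_option backward.isDefEq.respectTransparency false
set_option backward.isDefEq.respectTransparency.types false

universe u

open CategoryTheory CategoryTheory.Limits AlgebraicGeometry TopologicalSpace Opposite

noncomputable section

namespace Groth.Agent.BirBlowUp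

open Groth.Agent Groth.Agent.BlowUpLib

variable {X P Y : Scheme.{u}} {k : Type u} [CommRing k]

theorem strHom_comp (c : X ⟶ P) (p : P ⟶ Spec (CommRingCat.of k)) {U : X.Opens} {V : P.Opens}
    (h : U ≤ c ⁻¹ᵁ V) : (c.appLE V U h).hom.comp (strHom p V) = strHom (c ≫ p) U := by
  simp only [strHom]
  rw [← CommRingCat.hom_comp, Category.assoc]
  refine congrArg CommRingCat.Hom.hom (congrArg (_ ≫ ·) ?_)
  rw [← Scheme.Hom.appLE_comp_appLE c p ⊤ V U le_top h]

/-- In a closed subscheme of a product the ring of the intersection of two affine opens is generated by theirs. -/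
theorem eq_top_of_range_le (p : P ⟶ Spec (CommRingCat.of k)) (q : Y ⟶ Spec (CommRingCat.of k)) [IsSeparated q]
    (c : X ⟶ P) [IsClosedImmersion c] (f : X ⟶ Y) (hc : c ≫ p = f ≫ q) {V : P.Opens} (hV : IsAffineOpen V)
    {W : Y.Opens} (hW : IsAffineOpen W) {U : X.Opens} (hU : IsAffineOpen U) (hUeq : U = c ⁻¹ᵁ V ⊓ f ⁻¹ᵁ W)
    (S : Subring Γ(X, U)) (hSV : ∀ v, (c.appLE V U (hUeq.le.trans inf_le_left)).hom v ∈ S)
    (hSW : ∀ w, (f.appLE W U (hUeq.le.trans inf_le_right)).hom w ∈ S) : S = ⊤ := by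
  let hcU : U ≤ c ⁻¹ᵁ V := hUeq.le.trans inf_le_left
  let hfU : U ≤ f ⁻¹ᵁ W := hUeq.le.trans inf_le_right
  let αV : CommRingCat.of Γ(P, V) ⟶ CommRingCat.of S :=
    CommRingCat.ofHom ((c.appLE V U hcU).hom.codRestrict S hSV)
  let αW : CommRingCat.of Γ(Y, W) ⟶ CommRingCat.of S :=
    CommRingCat.ofHom ((f.appLE W U hfU).hom.codRestrict S hSW)
  let ι : CommRingCat.of S ⟶ Γ(X, U) := CommRingCat.ofHom S.subtype
  have hιV : αV ≫ ι = c.appLE V U hcU := rfl
  have hιW : αW ≫ ι = f.appLE W U hfU := rfl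
  have heq : (Spec.map αV ≫ hV.fromSpec) ≫ p = (Spec.map αW ≫ hW.fromSpec) ≫ q := by
    rw [Category.assoc, Category.assoc, ← SpecMap_strHom p ⟨V, hV⟩, ← SpecMap_strHom q ⟨W, hW⟩, ← Spec.map_comp,
      ← Spec.map_comp]
    refine congrArg Spec.map (CommRingCat.hom_ext (RingHom.ext fun x => Subtype.ext ?_))
    show (c.appLE V U hcU).hom (strHom p V x) = (f.appLE W U hfU).hom (strHom q W x)
    exact congr($(strHom_comp c p hcU) x).trans ((hc ▸ rfl : strHom (c ≫ p) U x = strHom (f ≫ q) U x).trans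
      congr($(strHom_comp f q hfU) x).symm)
  let σ : X ⟶ pullback p q := pullback.lift c f hc
  haveI : IsClosedImmersion (σ ≫ pullback.fst p q) := by rw [pullback.lift_fst]; infer_instance
  haveI : IsClosedImmersion σ := IsClosedImmersion.of_comp σ (pullback.fst p q)
  let O : (pullback p q).Opens := pullback.fst p q ⁻¹ᵁ V ⊓ pullback.snd p q ⁻¹ᵁ W
  let g : Spec (CommRingCat.of S) ⟶ pullback p q :=
    pullback.lift (Spec.map αV ≫ hV.fromSpec) (Spec.map αW ≫ hW.fromSpec) heq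
  have hg1 : g ≫ pullback.fst p q = Spec.map αV ≫ hV.fromSpec := pullback.lift_fst _ _ _
  have hg2 : g ≫ pullback.snd p q = Spec.map αW ≫ hW.fromSpec := pullback.lift_snd _ _ _
  have hgO : Set.range g ⊆ Set.range O.ι := by
    rw [Scheme.Opens.range_ι]
    rintro _ ⟨s, rfl⟩
    refine ⟨?_, ?_⟩
    · show (g ≫ pullback.fst p q) s ∈ V
      rw [hg1]
      exact hV.range_fromSpec.le (Set.mem_range_self _)
    · show (g ≫ pullback.snd p q) s ∈ W
      rw [hg2]
      exact hW.range_fromSpec.le (Set.mem_range_self _)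
  let gO : Spec (CommRingCat.of S) ⟶ O := IsOpenImmersion.lift O.ι g hgO
  have hgO' : gO ≫ O.ι = g := IsOpenImmersion.lift_fac _ _ _
  have hpre : σ ⁻¹ᵁ O = U := by
    rw [hUeq]
    show (σ ≫ pullback.fst p q) ⁻¹ᵁ V ⊓ (σ ≫ pullback.snd p q) ⁻¹ᵁ W = _
    rw [pullback.lift_fst, pullback.lift_snd]
  have hrg : Set.range hU.fromSpec ⊆ Set.range (σ ⁻¹ᵁ O).ι := by
    rw [hU.range_fromSpec, Scheme.Opens.range_ι, hpre]
  let eU : Spec Γ(X, U) ⟶ (σ ⁻¹ᵁ O : X.Opens) := IsOpenImmersion.lift (σ ⁻¹ᵁ O).ι hU.fromSpec hrg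
  have heU : eU ≫ (σ ⁻¹ᵁ O).ι = hU.fromSpec := IsOpenImmersion.lift_fac _ _ _
  haveI : IsIso eU := by
    haveI : IsOpenImmersion (eU ≫ (σ ⁻¹ᵁ O).ι) := heU ▸ inferInstance
    haveI : IsOpenImmersion eU := IsOpenImmersion.of_comp eU (σ ⁻¹ᵁ O).ι
    haveI : Surjective eU := ⟨fun x => by
      obtain ⟨y, hy⟩ := (hU.range_fromSpec.ge (hpre.le x.2) : x.1 ∈ Set.range hU.fromSpec)
      refine ⟨y, (σ ⁻¹ᵁ O).ι.injective ?_⟩
      exact (congr($(heU).base y)).trans hy⟩
    haveI : Epi eU.base := (TopCat.epi_iff_surjective _).2 eU.surjective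
    exact IsOpenImmersion.isIso eU
  have hkey : eU ≫ σ ∣_ O = Spec.map ι ≫ gO := by
    rw [← cancel_mono O.ι, Category.assoc, Category.assoc, morphismRestrict_ι, hgO', reassoc_of% heU]
    refine pullback.hom_ext ?_ ?_
    · rw [Category.assoc, Category.assoc, pullback.lift_fst, hg1, ← Spec.map_comp_assoc, hιV,
        IsAffineOpen.SpecMap_appLE_fromSpec c hV hU hcU]
    · rw [Category.assoc, Category.assoc, pullback.lift_snd, hg2, ← Spec.map_comp_assoc, hιW,
        IsAffineOpen.SpecMap_appLE_fromSpec f hW hU hfU]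
  haveI : IsClosedImmersion (Spec.map ι ≫ gO) := by rw [← hkey]; infer_instance
  haveI : IsClosedImmersion (Spec.map ι) := IsClosedImmersion.of_comp (Spec.map ι) gO
  have hs : Function.Surjective ι.hom := by
    have h1 := (IsClosedImmersion.isAffine_surjective_of_isAffine (f := Spec.map ι)).2
    intro z
    obtain ⟨y, hy⟩ := h1 ((Scheme.ΓSpecIso Γ(X, U)).inv z)
    refine ⟨(Scheme.ΓSpecIso (CommRingCat.of S)).hom y, ?_⟩
    refine ((congr($(Scheme.ΓSpecIso_naturality ι) y)).symm.trans ?_)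
    show (Scheme.ΓSpecIso Γ(X, U)).hom ((Spec.map ι).appTop y) = z
    rw [hy]
    exact congr($((Scheme.ΓSpecIso Γ(X, U)).inv_hom_id) z)
  exact top_le_iff.1 fun z _ => by obtain ⟨y, rfl⟩ := hs z; exact y.2

end Groth.Agent.BirBlowUp
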