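import Groth.Agent.BlowUpLib.Glue

/-!
# Recognising a blowing up from its standard charts
-/

set_option autoImplicit false
set_option linter.style.haveILetI false
set_option linter.unusedSectionVars false
set_option backward.isDefEq.respectTransparency false
set_option backward.isDefEq.respectTransparency.types false

universe u

open CategoryTheory CategoryTheory.Limits AlgebraicGeometry TopologicalSpace Opposite

noncomputable section

namespace Groth.Agent.BirBlowUp

open Groth.Agent Groth.Agent.BlowUpLib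

variable {X : Scheme.{u}} {A : Type u} [CommRing A] (f : X ⟶ Spec (CommRingCat.of A))

theorem strHom_res {V W : X.Opens} (h : V ≤ W) (a : A) :
    X.presheaf.map (homOfLE h).op (strHom f W a) = strHom f V a := by
  simp only [strHom]
  show (((Scheme.ΓSpecIso (CommRingCat.of A)).inv ≫ f.appLE ⊤ W le_top) ≫ X.presheaf.map (homOfLE h).op).hom a = _
  rw [Category.assoc, Scheme.Hom.appLE_map]

/-- A birational morphism with affine charts on which the ratios of the given elements generate is the blowing up. -/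
theorem isBlowUp_of_charts [IsDomain A] [IsIntegral X] {ι : Type} (τ : ι → A) (hτ : ∀ i, τ i ≠ 0)
    (U : ι → X.Opens) (hU : ∀ i, IsAffineOpen (U i)) (hcov : ⨆ i, U i = ⊤)
    (hinj : ∀ i, Function.Injective (strHom f (U i)))
    (r : ∀ i, ι → Γ(X, U i)) (hr : ∀ i j, r i j * strHom f (U i) (τ i) = strHom f (U i) (τ j))
    (hgen : ∀ i, Subring.closure (Set.range (strHom f (U i)) ∪ Set.range (r i)) = ⊤)
    (hloc : ∀ i j z (hz : z ∈ U j), IsUnit (X.presheaf.germ (U j) z hz (r j i)) → z ∈ U i) :
    BlowUp.IsBlowUp f (centre (Ideal.span (Set.range τ))) := by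
  let I := Ideal.span (Set.range τ)
  let a : ι → I := fun i => ⟨τ i, Ideal.subset_span ⟨i, rfl⟩⟩
  have hspan : ∀ i, ((centre I).comap f).ideal ⟨U i, hU i⟩ = Ideal.span {strHom f (U i) (τ i)} := fun i => by
    rw [ideal_comap_centre, Ideal.map_span, ← Set.range_comp]
    refine le_antisymm (Ideal.span_le.2 ?_) (Ideal.span_mono (Set.singleton_subset_iff.2 ⟨i, rfl⟩))
    rintro _ ⟨j, rfl⟩
    exact Ideal.mem_span_singleton'.2 ⟨r i j, hr i j⟩
  have hne : ∀ i, Nonempty (U i) := fun i => by
    by_contra hcon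
    rw [not_nonempty_iff] at hcon
    have : U i = ⊥ := le_bot_iff.1 fun x hx => (hcon.false (⟨x, hx⟩ : U i)).elim
    haveI : Subsingleton Γ(X, U i) := by rw [this]; infer_instance
    exact one_ne_zero (hinj i (Subsingleton.elim (strHom f (U i) 1) (strHom f (U i) 0)))
  have hcart : BlowUp.IsEffCartierIdeal ((centre I).comap f) := fun x => by
    obtain ⟨i, hi⟩ := Opens.mem_iSup.1 (hcov.ge (show x ∈ (⊤ : X.Opens) from trivial))
    haveI := hne i
    exact ⟨⟨U i, hU i⟩, hi, _, mem_nonZeroDivisors_of_ne_zero fun h0 => hτ i (hinj i (h0.trans (map_zero _).symm)),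
      hspan i⟩
  obtain ⟨h, hh⟩ := exists_lift I hcart
  have hle : ∀ i, U i ≤ h ⁻¹ᵁ (chart I (a i)).opensRange := fun i z hz =>
    range_subset_chart I hcart h hh (a i) ⟨U i, hU i⟩ (hspan i) z hz
  have hpre : ∀ i, h ⁻¹ᵁ (chart I (a i)).opensRange = U i := fun i => by
    refine le_antisymm (fun z hz => ?_) (hle i)
    obtain ⟨j, hzj⟩ := Opens.mem_iSup.1 (hcov.ge (show z ∈ (⊤ : X.Opens) from trivial))
    haveI := hne j
    obtain ⟨_, ⟨D, hD, rfl⟩, hzD, hDle⟩ := X.isBasis_affineOpens.exists_subset_of_mem_open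
      (show z ∈ ((h ⁻¹ᵁ (chart I (a i)).opensRange ⊓ U j : X.Opens) : Set X) from ⟨hz, hzj⟩) (Opens.isOpen _)
    haveI : Nonempty D := ⟨⟨z, hzD⟩⟩
    have hsub : Set.range (hD.fromSpec ≫ h) ⊆ Set.range (chart I (a i)) := by
      rintro _ ⟨p, rfl⟩
      exact (hDle (hD.range_fromSpec.le (Set.mem_range_self p))).1
    obtain ⟨ψ, hψ⟩ := Spec.map_surjective (IsOpenImmersion.lift (chart I (a i)) (hD.fromSpec ≫ h) hsub)
    have hψφ : ψ.hom.comp (algebraMap A _) = strHom f D := by
      have : Spec.map ψ ≫ chart I (a i) ≫ toBase I = Spec.map (CommRingCat.ofHom (strHom f D)) := by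
        rw [hψ, IsOpenImmersion.lift_fac_assoc, Category.assoc, hh, SpecMap_strHom f ⟨D, hD⟩]
      rw [chart_toBase, ← Spec.map_comp] at this
      exact congrArg CommRingCat.Hom.hom (Spec.map_injective this)
    have hDj : D ≤ U j := fun x hx => (hDle hx).2
    let res := (X.presheaf.map (homOfLE hDj).op).hom
    have h1 : ψ.hom (frac I (a j) (a i)) * strHom f D (τ i) = strHom f D (τ j) := by
      rw [← hψφ]
      exact (map_mul ψ.hom _ _).symm.trans (congrArg ψ.hom (frac_mul I (a j) (a i)))
    have h2 : res (r j i) * strHom f D (τ j) = strHom f D (τ i) := by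
      rw [← strHom_res f hDj, ← strHom_res f hDj (τ i)]
      exact (map_mul res _ _).symm.trans (congrArg res (hr j i))
    have hne0 : strHom f D (τ j) ≠ 0 := fun h0 => hτ j (hinj j (map_injective_of_isIntegral (X := X) (homOfLE hDj)
      ((strHom_res f hDj (τ j)).trans (h0.trans (map_zero _).symm)) |>.trans (map_zero _).symm))
    have hu : IsUnit (res (r j i)) := IsUnit.of_mul_eq_one (ψ.hom (frac I (a j) (a i))) (mul_right_cancel₀ hne0 (by
      rw [one_mul, mul_right_comm, h2, mul_comm, h1]))
    refine hloc i j z hzj ?_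
    rw [← X.presheaf.germ_res_apply (homOfLE hDj) z hzD]
    exact hu.map _
  have hcharts : ⨆ i, (chart I (a i)).opensRange = ⊤ := top_le_iff.1 fun p _ => by
    obtain ⟨b, q, hq⟩ := chart_covers I p
    by_contra hcon
    have hall : ∀ i, frac I (a i) b ∈ q.asIdeal := fun i => by
      by_contra hni
      obtain ⟨w, hw⟩ := chart_overlap I (a i) b (show q ∈ PrimeSpectrum.basicOpen _ from hni)
      exact hcon (Opens.mem_iSup.2 ⟨i, w, hw.trans hq⟩)
    have hlin : ∀ (x : A) (hx : x ∈ I), frac I ⟨x, hx⟩ b ∈ q.asIdeal := fun x hx => by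
      refine Submodule.span_induction (p := fun x hx => frac I ⟨x, hx⟩ b ∈ q.asIdeal) ?_ ?_ ?_ ?_ hx
      · rintro _ ⟨i, rfl⟩; exact hall i
      · have : frac I ⟨0, I.zero_mem⟩ b = 0 := Subtype.ext (IsLocalization.mk'_zero (S := Localization.Away (b : A)) _)
        exact this ▸ q.asIdeal.zero_mem
      · intro x y hx hy hxq hyq
        have : frac I ⟨x + y, I.add_mem hx hy⟩ b = frac I ⟨x, hx⟩ b + frac I ⟨y, hy⟩ b := Subtype.ext (by
          simp only [frac, Subalgebra.coe_add]
          rw [IsLocalization.mk'_eq_mul_mk'_one, IsLocalization.mk'_eq_mul_mk'_one (M := Submonoid.powers (b : A)) x,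
            IsLocalization.mk'_eq_mul_mk'_one (M := Submonoid.powers (b : A)) y, map_add, add_mul])
        exact this ▸ q.asIdeal.add_mem hxq hyq
      · intro c x hx hxq
        have : frac I ⟨c • x, I.smul_mem c hx⟩ b = algebraMap A _ c * frac I ⟨x, hx⟩ b := Subtype.ext (by
          simp only [frac, Subalgebra.coe_mul, Subalgebra.coe_algebraMap, smul_eq_mul]
          rw [IsLocalization.mk'_eq_mul_mk'_one, IsLocalization.mk'_eq_mul_mk'_one (M := Submonoid.powers (b : A)) x,
            map_mul, mul_assoc])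
        exact this ▸ q.asIdeal.mul_mem_left _ hxq
    have hone : frac I ⟨(b : A), b.2⟩ b = 1 := Subtype.ext (IsLocalization.mk'_self (S := Localization.Away (b : A)) _)
    exact q.2.ne_top ((Ideal.eq_top_iff_one _).2 (hone ▸ hlin _ b.2))
  haveI : IsIso h := by
    refine (IsZariskiLocalAtTarget.of_iSup_eq_top (P := MorphismProperty.isomorphisms Scheme.{u})
      (fun i => (chart I (a i)).opensRange) hcharts fun i => ?_)
    show IsIso (h ∣_ (chart I (a i)).opensRange)
    have hsub : Set.range ((hU i).fromSpec ≫ h) ⊆ Set.range (chart I (a i)) := by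
      rintro _ ⟨p, rfl⟩
      exact hle i ((hU i).range_fromSpec.le (Set.mem_range_self p))
    obtain ⟨ψ, hψ⟩ := Spec.map_surjective (IsOpenImmersion.lift (chart I (a i)) ((hU i).fromSpec ≫ h) hsub)
    have hfac : (hU i).fromSpec ≫ h = Spec.map ψ ≫ chart I (a i) := by rw [hψ, IsOpenImmersion.lift_fac]
    have hψφ : ψ.hom.comp (algebraMap A _) = strHom f (U i) := by
      have : Spec.map ψ ≫ chart I (a i) ≫ toBase I = Spec.map (CommRingCat.ofHom (strHom f (U i))) := by
        rw [← reassoc_of% hfac, hh, SpecMap_strHom f ⟨U i, hU i⟩]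
      rw [chart_toBase, ← Spec.map_comp] at this
      exact congrArg CommRingCat.Hom.hom (Spec.map_injective this)
    haveI := hne i
    have hψbij : Function.Bijective ψ.hom := by
      refine ⟨(injective_iff_map_eq_zero _).2 fun x hx => ?_, fun z => ?_⟩
      · obtain ⟨⟨c, ⟨_, N, rfl⟩⟩, hc⟩ := IsLocalization.surj (Submonoid.powers (τ i)) (x : Localization.Away (τ i))
        have hc' : x * algebraMap A _ (τ i ^ N) = algebraMap A _ c := Subtype.ext hc
        have := congrArg ψ.hom hc'
        rw [map_mul, hx, zero_mul] at this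
        have hc0 : c = 0 := hinj i (((congr($hψφ c)).symm.trans this.symm).trans (map_zero _).symm)
        rw [hc0, map_zero] at hc'
        have hu : IsUnit (algebraMap A (Localization.Away (τ i)) (τ i ^ N)) :=
          IsLocalization.map_units _ (⟨_, N, rfl⟩ : Submonoid.powers (τ i))
        exact Subtype.ext (hu.mul_left_eq_zero.1 (congrArg Subtype.val hc'))
      · have hz : z ∈ Subring.closure (Set.range (strHom f (U i)) ∪ Set.range (r i)) := (hgen i).symm ▸ Subring.mem_top z
        refine (Subring.closure_le (t := ψ.hom.range)).2 ?_ hz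
        rintro _ (⟨c, rfl⟩ | ⟨j, rfl⟩)
        · exact ⟨algebraMap A _ c, congr($hψφ c)⟩
        · refine ⟨frac I (a j) (a i), mul_right_cancel₀ (b := strHom f (U i) (τ i))
            (fun h0 => hτ i (hinj i (h0.trans (map_zero _).symm))) ?_⟩
          rw [hr i j, ← hψφ]
          exact (map_mul ψ.hom _ _).symm.trans (congrArg ψ.hom (frac_mul I (a j) (a i)))
    haveI : IsIso ψ := (ConcreteCategory.isIso_iff_bijective ψ).2 hψbij
    have hsq : IsPullback (Spec.map ψ) (hU i).fromSpec (chart I (a i)) h :=
      IsOpenImmersion.isPullback _ _ _ _ hfac ((hpre i).trans (hU i).opensRange_fromSpec.symm)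
    haveI : IsIso (pullback.snd h (chart I (a i))) := by
      rw [← hsq.flip.isoPullback_inv_snd]
      infer_instance
    exact ((MorphismProperty.isomorphisms Scheme.{u}).arrow_mk_iso_iff
      (morphismRestrictOpensRange h (chart I (a i)))).2 (inferInstanceAs (IsIso _))
  rw [← hh]
  exact isBlowUp_iso_comp h (isBlowUp_local I)

end Groth.Agent.BirBlowUp
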