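import Groth.Agent.BirBlowUp.Gen
import Groth.Agent.BirBlowUp.Forms
import Groth.Agent.CICoh.Chart
import Groth.Agent.WCI.CISupport
import Groth.Agent.CurveVA.Converse

/-!
# A birational morphism of projective varieties is a blowing up
-/

set_option autoImplicit false
set_option linter.style.haveILetI false
set_option linter.unusedSectionVars false
set_option backward.isDefEq.respectTransparency false
set_option backward.isDefEq.respectTransparency.types false
set_option maxHeartbeats 1000000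

universe u

open CategoryTheory CategoryTheory.Limits AlgebraicGeometry TopologicalSpace Opposite

noncomputable section

namespace Groth.Agent.BirBlowUp

open Groth.Agent Groth.Agent.BlowUpLib

variable {k : Type u} [Field k] {X Y : Scheme.{u}} [IsIntegral X] [IsIntegral Y] {a b : ℕ}

/-- Common denominators for finitely many elements of the function field, as forms. -/
theorem exists_forms (iY : Y ⟶ CohB1.ProjSpace b k) [IsClosedImmersion iY] {y : Y}
    (l : Fin (b + 1)) (hl : y ∈ iY ⁻¹ᵁ LefPen.chart b k l) {m : ℕ} (g : Fin m → Y.presheaf.stalk y) :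
    ∃ (E : ℕ) (F : Fin m → LefPen.Form b k E) (G : LefPen.Form b k E),
      IsUnit (val iY l y hl G) ∧ ∀ j, val iY l y hl (F j) = g j * val iY l y hl G := by
  classical
  let V := iY ⁻¹ᵁ LefPen.chart b k l
  have hV : IsAffineOpen V := (HypCurve.isAffineOpen_chart b k l).preimage iY
  letI := TopCat.Presheaf.algebra_section_stalk Y.presheaf (⟨y, hl⟩ : V)
  haveI := hV.isLocalization_stalk ⟨y, hl⟩
  obtain ⟨d, hd⟩ := IsLocalization.exist_integer_multiples_of_finite (hV.primeIdealOf ⟨y, hl⟩).asIdeal.primeCompl g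
  choose c hc using hd
  have hsurj := Scheme.Hom.app_surjective iY _ (HypCurve.isAffineOpen_chart b k l)
  obtain ⟨D, hD⟩ := hsurj d.1
  obtain ⟨eD, GD, rfl⟩ := exists_form l D
  choose C hC using fun j => hsurj (c j)
  choose eC GC hGC using fun j => exists_form l (C j)
  let E := max eD (Finset.univ.sup eC)
  obtain ⟨G, hG⟩ := exists_pad l (le_max_left eD (Finset.univ.sup eC)) GD
  choose F hF using fun j => exists_pad l ((Finset.le_sup (Finset.mem_univ j)).trans (le_max_right eD _) : eC j ≤ E) (GC j)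
  have hvG : val iY l y hl G = algebraMap Γ(Y, V) (Y.presheaf.stalk y) d.1 := by
    rw [val, hG, hD]; rfl
  refine ⟨E, F, G, hvG ▸ IsLocalization.map_units _ d, fun j => ?_⟩
  rw [hvG, val, hF, hGC, hC, mul_comm]
  exact ((hc j).trans (Algebra.smul_def d.1 (g j)))

theorem exists_isBlowUp (iX : X ⟶ CohB1.ProjSpace a k) [IsClosedImmersion iX] (iY : Y ⟶ CohB1.ProjSpace b k)
    [IsClosedImmersion iY] (f : X ⟶ Y)
    (hk : f ≫ iY ≫ CohB1.ProjSpace.toSpec b k = iX ≫ CohB1.ProjSpace.toSpec a k)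
    (hgen : f.base (genericPoint X) = genericPoint Y)
    (hbir : Function.Bijective (f.residueFieldMap (genericPoint X)).hom) :
    ∃ I : Y.IdealSheafData, BlowUp.IsBlowUp f I := by
  classical
  haveI := PnCoh.Chow.isProper_toSpec a k
  haveI := PnCoh.Chow.isProper_toSpec b k
  let η := genericPoint X
  have hy : ∀ V : Y.Opens, (V : Set Y).Nonempty → f η ∈ V := fun V hV => by
    show f.base η ∈ V
    rw [hgen]
    exact (((genericPoint_spec Y).mem_open_set_iff V.2).2 (by simpa using hV) :)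
  have hη : ∀ U : X.Opens, (U : Set X).Nonempty → η ∈ U := fun U hU =>
    (((genericPoint_spec X).mem_open_set_iff U.2).2 (by simpa using hU) :)
  have hgermX : ∀ (U : X.Opens) (h : η ∈ U), Function.Injective (X.presheaf.germ U η h) := fun U h =>
    germ_injective_of_isIntegral X η h
  have hgermY : ∀ (V : Y.Opens) (h : f η ∈ V), Function.Injective (Y.presheaf.germ V (f η) h) := fun V h =>
    germ_injective_of_isIntegral Y (f η) h
  let φ := f.stalkMap η
  have hφ : Function.Bijective φ.hom := by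
    have hfX : IsField (X.presheaf.stalk η) := by
      letI : Field (X.presheaf.stalk η) := inferInstanceAs (Field X.functionField)
      exact Field.toIsField _
    have hfY : IsField (Y.presheaf.stalk (f η)) := by
      show IsField (Y.presheaf.stalk (f.base η))
      rw [hgen]
      letI : Field (Y.presheaf.stalk (genericPoint Y)) := inferInstanceAs (Field Y.functionField)
      exact Field.toIsField _
    letI := hfX.toField
    have hresX : Function.Injective (X.residue η).hom := RingHom.injective _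
    refine ⟨?_, fun z => ?_⟩
    · letI := hfY.toField
      exact RingHom.injective _
    · obtain ⟨w, hw⟩ := hbir.2 ((X.residue η).hom z)
      obtain ⟨w, rfl⟩ := Scheme.residue_surjective Y (f η) w
      exact ⟨w, hresX ((congr($(Scheme.residue_residueFieldMap f η) w)).symm.trans hw)⟩
  -- the valid coordinates
  let vs := {i : Fin (a + 1) // η ∈ iX ⁻¹ᵁ LefPen.chart a k i}
  let r := Fintype.card vs
  let v : Fin r → vs := (Fintype.equivFin vs).symm
  have hv : Function.Surjective v := (Fintype.equivFin vs).symm.surjective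
  obtain ⟨i₀, hi₀⟩ := Opens.mem_iSup.1 ((HypCurve.iSup_chart a k).ge (show iX η ∈ (⊤ : (CohB1.ProjSpace a k).Opens) from trivial))
  obtain ⟨l₀, hl₀⟩ := Opens.mem_iSup.1 ((HypCurve.iSup_chart b k).ge (show iY (f η) ∈ (⊤ : (CohB1.ProjSpace b k).Opens) from trivial))
  let Xj : Fin (a + 1) → LefPen.Form a k 1 := fun j => ⟨MvPolynomial.X j, LefPen.X_mem a k j⟩
  let g : Fin r → Y.presheaf.stalk (f η) := fun j =>
    (RingEquiv.ofBijective φ.hom hφ).symm (val iX i₀ η hi₀ (Xj (v j).1))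
  have hg : ∀ j, φ.hom (g j) = val iX i₀ η hi₀ (Xj (v j).1) := fun j =>
    (RingEquiv.ofBijective φ.hom hφ).apply_symm_apply _
  obtain ⟨E, F, G, hGu, hFG⟩ := exists_forms iY l₀ hl₀ g
  have hself : ∀ (i : Fin (a + 1)) (hi : η ∈ iX ⁻¹ᵁ LefPen.chart a k i), val iX i η hi (Xj i) = 1 := fun i hi => by
    show X.presheaf.germ _ η hi (iX.app _ (LefPen.dehom (Xj i) i)) = 1
    rw [HypCurve.dehom_eq, zdehom_X_self, map_one, map_one, map_one]
  refine ⟨(LefPen.ciIdeal F).comap iY, ?_⟩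
  let L := {l : Fin (b + 1) // f η ∈ iY ⁻¹ᵁ LefPen.chart b k l}
  let Yl : L → Y.affineOpens := fun l =>
    ⟨iY ⁻¹ᵁ LefPen.chart b k l.1, (HypCurve.isAffineOpen_chart b k l.1).preimage iY⟩
  refine isBlowUp_of_local (fun l => (Yl l).2.fromSpec) (fun y => ?_)
    (fun l => (f ∣_ (Yl l).1) ≫ (Yl l).2.isoSpec.hom) (fun l => (f ⁻¹ᵁ (Yl l).1).ι) (fun l => ?_) (fun l => ?_)
  · obtain ⟨l, hl⟩ := Opens.mem_iSup.1 ((HypCurve.iSup_chart b k).ge (show iY y ∈ (⊤ : (CohB1.ProjSpace b k).Opens) from trivial))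
    let L0 : L := ⟨l, hy _ ⟨y, hl⟩⟩
    obtain ⟨z, hz⟩ := ((Yl L0).2.range_fromSpec.ge hl : y ∈ Set.range (Yl L0).2.fromSpec)
    exact ⟨L0, z, hz⟩
  · exact IsPullback.of_iso (isPullback_morphismRestrict f (Yl l).1) (Iso.refl _) (Yl l).2.isoSpec (Iso.refl _)
      (Iso.refl _) (by simp) (by simp) (by simp) (by simp)
  rw [comap_fromSpec]
  obtain ⟨l, hl⟩ := l
  let A := Γ(Y, iY ⁻¹ᵁ LefPen.chart b k l)
  let W := iY ⁻¹ᵁ LefPen.chart b k l
  have hW : IsAffineOpen W := (HypCurve.isAffineOpen_chart b k l).preimage iY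
  haveI : Nonempty W := ⟨⟨f η, hl⟩⟩
  let τ : Fin r → A := fun j => iY.app (LefPen.chart b k l) (LefPen.dehom (F j) l)
  have hI : ((LefPen.ciIdeal F).comap iY).ideal (Yl ⟨l, hl⟩) = Ideal.span (Set.range τ) := by
    rw [ModPairLib.ideal_comap _ iY (HypCurve.achart b k l) (Yl ⟨l, hl⟩) le_rfl, CICoh.ciIdeal_chart, Ideal.map_span,
      ← Set.range_comp]
    exact congrArg (fun s => Ideal.span (Set.range s)) (funext fun j =>
      congr($(Scheme.Hom.app_eq_appLE iY (U := LefPen.chart b k l)).hom _).symm)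
  rw [hI]
  haveI : Nonempty (f ⁻¹ᵁ W : X.Opens) := ⟨⟨η, hl⟩⟩
  haveI : IsIntegral (f ⁻¹ᵁ W : Scheme.{u}) := isIntegral_of_isOpenImmersion (f ⁻¹ᵁ W).ι
  let fl : (f ⁻¹ᵁ W : Scheme.{u}) ⟶ Spec (CommRingCat.of A) := (f ∣_ W) ≫ hW.isoSpec.hom
  have hflι : ∀ (U : (f ⁻¹ᵁ W : Scheme.{u}).Opens) (x : A), strHom fl U x =
      (f.appLE W ((f ⁻¹ᵁ W).ι ''ᵁ U) (by rintro _ ⟨p, -, rfl⟩; exact p.2)).hom x := by
    intro U x
    have e : (Scheme.ΓSpecIso (CommRingCat.of A)).inv ≫ fl.appLE ⊤ U le_top =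
        f.appLE W ((f ⁻¹ᵁ W).ι ''ᵁ U) (by rintro _ ⟨p, -, rfl⟩; exact p.2) := by
      simp only [fl]
      rw [← Scheme.Hom.appLE_comp_appLE (f ∣_ W) hW.isoSpec.hom ⊤ ⊤ U le_top le_top, morphismRestrict_appLE,
        show hW.isoSpec.hom.appLE ⊤ ⊤ le_top = hW.isoSpec.hom.appTop from (Scheme.Hom.app_eq_appLE _).symm,
        IsAffineOpen.isoSpec_hom_appTop]
      simp [Scheme.Opens.topIso]
      exact Iso.inv_hom_id_assoc _ _
    exact congr($e x)
  let γ : Y.presheaf.stalk (f η) := val iY l (f η) hl G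
  have hγ : γ ≠ 0 := val_ne_zero_iff iY hl hl₀ G hGu.ne_zero
  have hτg : ∀ j, val iY l (f η) hl (F j) = g j * γ := fun j => by
    have h := val_cross iY hl hl₀ (F j) G
    rw [hFG, show val iY l (f η) hl G * (g j * val iY l₀ (f η) hl₀ G) = (g j * γ) * val iY l₀ (f η) hl₀ G by ring] at h
    exact mul_right_cancel₀ hGu.ne_zero h
  let UX : Fin r → X.Opens := fun j => iX ⁻¹ᵁ LefPen.chart a k (v j).1
  let U : Fin r → (f ⁻¹ᵁ W : Scheme.{u}).Opens := fun j => (f ⁻¹ᵁ W).ι ⁻¹ᵁ UX j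
  have hηU : ∀ i, η ∈ (f ⁻¹ᵁ W).ι ''ᵁ U i := fun i => ⟨⟨η, hl⟩, (v i).2, rfl⟩
  haveI : ∀ i, Nonempty ((f ⁻¹ᵁ W).ι ''ᵁ U i : X.Opens) := fun i => ⟨⟨η, hηU i⟩⟩
  have hle1 : ∀ i, (f ⁻¹ᵁ W).ι ''ᵁ U i ≤ UX i := fun i => by rintro _ ⟨p, hp, rfl⟩; exact hp
  have hle2 : ∀ i, (f ⁻¹ᵁ W).ι ''ᵁ U i ≤ f ⁻¹ᵁ W := fun i => by rintro _ ⟨p, -, rfl⟩; exact p.2
  have hUeq : ∀ i, (f ⁻¹ᵁ W).ι ''ᵁ U i = UX i ⊓ f ⁻¹ᵁ W := fun i =>
    le_antisymm (le_inf (hle1 i) (hle2 i)) fun x hx => ⟨⟨x, hx.2⟩, hx.1, rfl⟩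
  let rX : ∀ i, Fin (a + 1) → Γ(X, (f ⁻¹ᵁ W).ι ''ᵁ U i) := fun i j =>
    (iX.appLE (LefPen.chart a k (v i).1) _ (hle1 i)).hom (LefPen.dehom (Xj j) (v i).1)
  have hgr : ∀ i j, X.presheaf.germ _ η (hηU i) (rX i j) = val iX (v i).1 η (v i).2 (Xj j) := fun i j => by
    show X.presheaf.germ _ η _ (X.presheaf.map (homOfLE (hle1 i)).op (iX.app _ (LefPen.dehom (Xj j) (v i).1))) = _
    exact X.presheaf.germ_res_apply (homOfLE (hle1 i)) η (hηU i) _
  have hgs : ∀ i (x : A), X.presheaf.germ _ η (hηU i) (strHom fl (U i) x) = φ.hom (Y.presheaf.germ W (f η) hl x) :=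
    fun i x => by
    rw [hflι]
    show X.presheaf.germ _ η _ (X.presheaf.map (homOfLE (hle2 i)).op (f.app W x)) = _
    rw [X.presheaf.germ_res_apply]
    exact (Scheme.Hom.germ_stalkMap_apply f W η hl x).symm
  have hτ0 : ∀ j, τ j ≠ 0 := fun j h0 => by
    have h1 : g j * γ = 0 := (hτg j).symm.trans ((congrArg _ h0).trans (map_zero (Y.presheaf.germ W (f η) hl).hom))
    haveI : IsDomain (Y.presheaf.stalk (f η)) := (RingEquiv.ofBijective φ.hom hφ).toMulEquiv.isDomain _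
    have h2 : g j = 0 := (mul_eq_zero.1 h1).resolve_right hγ
    have h3 := hg j
    rw [h2, map_zero] at h3
    exact val_ne_zero_iff iX hi₀ (v j).2 (Xj (v j).1) (by rw [hself _ (v j).2]; exact one_ne_zero) h3.symm
  have hunit : ∀ (i : Fin (a + 1)) (j : Fin (a + 1)) (x : X) (hx : x ∈ iX ⁻¹ᵁ LefPen.chart a k i),
      IsUnit (X.presheaf.germ _ x hx (iX.app _ (LefPen.dehom (Xj j) i))) → x ∈ iX ⁻¹ᵁ LefPen.chart a k j := by
    intro i j x hx hu
    have h1 : x ∈ X.basicOpen (iX.app _ (LefPen.dehom (Xj j) i)) := (X.mem_basicOpen _ x hx).2 hu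
    rw [← Scheme.preimage_basicOpen] at h1
    exact (WCI.mem_basicOpen_dehom (Xj j) i _ hx).1 h1
  have hUaff : ∀ i, IsAffineOpen ((f ⁻¹ᵁ W).ι ''ᵁ U i) := fun i => by
    rw [hUeq]
    haveI := HypCurve.isSeparated_projSpace b k
    haveI : Y.IsSeparated := ⟨by rw [← terminal.comp_from iY]; infer_instance⟩
    have hA : IsAffineOpen (UX i) := (HypCurve.isAffineOpen_chart a k (v i).1).preimage iX
    haveI : IsAffine (UX i : Scheme.{u}) := hA
    haveI : IsAffineHom (((UX i).ι ≫ f) ≫ terminal.from Y) := inferInstance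
    haveI : IsAffineHom ((UX i).ι ≫ f) := IsAffineHom.of_comp ((UX i).ι ≫ f) (terminal.from Y)
    have h := (hW.preimage ((UX i).ι ≫ f)).image_of_isOpenImmersion (UX i).ι
    rw [Scheme.Hom.comp_preimage, Scheme.Hom.image_preimage_eq_opensRange_inf, Scheme.Opens.opensRange_ι] at h
    exact h
  refine isBlowUp_of_charts fl τ hτ0 U (fun i => ?_) ?_ (fun i x y hxy => ?_) (fun i j => rX i (v j).1) (fun i j => ?_)
    (fun i => ?_) (fun i j z hz hu => ?_)
  · exact (Scheme.Hom.isAffineOpen_iff_of_isOpenImmersion (f ⁻¹ᵁ W).ι).1 (hUaff i)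
  · refine top_le_iff.1 fun z _ => ?_
    obtain ⟨i, hi⟩ := Opens.mem_iSup.1 ((HypCurve.iSup_chart a k).ge
      (show iX z.1 ∈ (⊤ : (CohB1.ProjSpace a k).Opens) from trivial))
    obtain ⟨j, hj⟩ := hv ⟨i, hη _ ⟨z.1, hi⟩⟩
    refine Opens.mem_iSup.2 ⟨j, ?_⟩
    show z.1 ∈ iX ⁻¹ᵁ LefPen.chart a k (v j).1
    rw [hj]
    exact hi
  · refine hgermY W hl (hφ.1 ?_)
    rw [← hgs i, ← hgs i, hxy]
  · refine hgermX _ (hηU i) ?_
    rw [map_mul, hgr, hgs, hgs]
    show _ * φ.hom (val iY l (f η) hl (F i)) = φ.hom (val iY l (f η) hl (F j))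
    rw [hτg, hτg, map_mul, map_mul, hg, hg, ← mul_assoc, val_cross iX (v i).2 hi₀ (Xj (v j).1) (Xj (v i).1),
      hself _ (v i).2, one_mul]
  · let S : Subring Γ(X, (f ⁻¹ᵁ W).ι ''ᵁ U i) :=
      Subring.closure (Set.range (strHom fl (U i)) ∪ Set.range fun j => rX i (v j).1)
    haveI : IsSeparated (iY ≫ CohB1.ProjSpace.toSpec b k) := inferInstance
    refine eq_top_of_range_le (CohB1.ProjSpace.toSpec a k) (iY ≫ CohB1.ProjSpace.toSpec b k) iX f hk.symm
      (HypCurve.isAffineOpen_chart a k (v i).1) hW (hUaff i) (hUeq i) S (fun z => ?_)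
      (fun w => Subring.subset_closure (Or.inl ⟨w, hflι _ _⟩))
    obtain ⟨d, P, rfl⟩ := exists_form (v i).1 z
    rw [HypCurve.dehom_eq]
    let ψ : MvPolynomial (Fin (a + 1)) k →+* Γ(X, (f ⁻¹ᵁ W).ι ''ᵁ U i) :=
      ((iX.appLE (LefPen.chart a k (v i).1) _ ((hUeq i).le.trans inf_le_left)).hom.comp
        (Proj.awayToSection (CohB1.polyGrading a k) (MvPolynomial.X (v i).1)).hom).comp (ZetaLib.dehom a k (v i).1)
    suffices ∀ P, ψ P ∈ S from this P.1
    intro P
    induction P using MvPolynomial.induction_on with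
    | C c =>
      have h1 : ψ (MvPolynomial.C c) = strHom (iX ≫ CohB1.ProjSpace.toSpec a k) ((f ⁻¹ᵁ W).ι ''ᵁ U i) c := by
        rw [← strHom_comp iX (CohB1.ProjSpace.toSpec a k) (V := LefPen.chart a k (v i).1) (hle1 i)]
        show (iX.appLE _ _ _).hom ((Proj.awayToSection _ _).hom (ZetaLib.dehom a k (v i).1 (MvPolynomial.C c))) = _
        rw [show ZetaLib.dehom a k (v i).1 (MvPolynomial.C c) = ZetaLib.base a k (v i).1 c from
          MvPolynomial.eval₂Hom_C _ _ _, ← CurveVA.toSpec_appLE_chart a k (v i).1 c]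
        rfl
      rw [h1, ← hk, ← strHom_comp f (iY ≫ CohB1.ProjSpace.toSpec b k) (V := W) (hle2 i)]
      exact Subring.subset_closure (Or.inl ⟨_, hflι _ _⟩)
    | add P Q hP hQ => rw [map_add]; exact S.add_mem hP hQ
    | mul_X P j hP =>
      rw [map_mul]
      refine S.mul_mem hP ?_
      have hψX : ψ (MvPolynomial.X j) = rX i j := by
        show _ = (iX.appLE _ _ _).hom _
        rw [HypCurve.dehom_eq]; rfl
      rw [hψX]
      by_cases hj : η ∈ iX ⁻¹ᵁ LefPen.chart a k j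
      · obtain ⟨j', hj'⟩ := hv ⟨j, hj⟩
        exact Subring.subset_closure (Or.inr ⟨j', by simp only [hj']⟩)
      · have h0 : rX i j = 0 := by
          refine hgermX _ (hηU i) ?_
          rw [map_zero, hgr]
          by_contra hne
          letI : Field (X.presheaf.stalk η) := inferInstanceAs (Field X.functionField)
          exact hj (hunit (v i).1 j η (v i).2 (IsUnit.mk0 _ hne))
        rw [h0]; exact S.zero_mem
  · refine hunit (v j).1 (v i).1 z.1 hz ?_
    have h1 := hu.map ((f ⁻¹ᵁ W).stalkIso z).hom.hom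
    rw [← CommRingCat.comp_apply, Scheme.Opens.germ_stalkIso_hom] at h1
    rwa [← X.presheaf.germ_res_apply (homOfLE (hle1 j)) z.1 ⟨z, hz, rfl⟩]

end Groth.Agent.BirBlowUp
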